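import Cfsg.Agent.H0.PG2
set_option maxRecDepth 100000
set_option Elab.async false
set_option linter.unusedSectionVars false
namespace H0.MSz8
open H0 BN 
noncomputable def n0 : Net := (Net.cons (nat_lit 64) (nat_lit 0x20000) (Net.cons (nat_lit 32) (nat_lit 0xa00cba80) (Net.cons (nat_lit 16) (nat_lit 0x200007d1b00000a45) (Net.cons (nat_lit 8) (nat_lit 0x5600b80072007a) (Net.cons (nat_lit 4) (nat_lit 0x2040a0a090f0e0d) (Net.cons (nat_lit 2) (nat_lit 0x2110133211222300) (Net.cons (nat_lit 1) (nat_lit 0x15144541414015014) (Net.cons (nat_lit 2) (nat_lit 0x2022020000022) (Net.cons (nat_lit 4) (nat_lit 0xa0a020400020004) (Net.cons (nat_lit 8) (nat_lit 0xb8005600fa0030) (Net.cons (nat_lit 16) (nat_lit 0x2000082e40000b5bc) (Net.cons (nat_lit 32) (nat_lit 0xa00cba80) (Net.cons (nat_lit 64) (nat_lit 0x20000) Net.nil)))))))))))))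
noncomputable def n1 : Net := (Net.cons (nat_lit 64) (nat_lit 0x102000000000100) (Net.cons (nat_lit 32) (nat_lit 0x10200000000000092d8f2ea) (Net.cons (nat_lit 16) (nat_lit 0x100000086100000342c) (Net.cons (nat_lit 8) (nat_lit 0x2000100d2009500940076) (Net.cons (nat_lit 4) (nat_lit 0x2050c0e03080c) (Net.cons (nat_lit 2) (nat_lit 0x3010020232131202) (Net.cons (nat_lit 1) (nat_lit 0x10000001415414115441050) (Net.cons (nat_lit 2) (nat_lit 0x20000020202000) (Net.cons (nat_lit 4) (nat_lit 0x8040a0e000c0c02) (Net.cons (nat_lit 8) (nat_lit 0x2000000fa0024001c0020) (Net.cons (nat_lit 16) (nat_lit 0x52cc00007a26) (Net.cons (nat_lit 32) (nat_lit 0x1020000000000001a910466) (Net.cons (nat_lit 64) (nat_lit 0x102000000000100) Net.nil)))))))))))))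
noncomputable def n2 : Net := (Net.cons (nat_lit 64) (nat_lit 0x102000000000100) (Net.cons (nat_lit 32) (nat_lit 0x1020000000000001a35b57e) (Net.cons (nat_lit 16) (nat_lit 0x16dc0000a468) (Net.cons (nat_lit 8) (nat_lit 0x20001003600d80041008c) (Net.cons (nat_lit 4) (nat_lit 0x40102050e0f0802) (Net.cons (nat_lit 2) (nat_lit 0x1011200011001102) (Net.cons (nat_lit 1) (nat_lit 0x10000004441141441114544) (Net.cons (nat_lit 2) (nat_lit 0x2022202022222020) (Net.cons (nat_lit 4) (nat_lit 0x80400020000020c) (Net.cons (nat_lit 8) (nat_lit 0x20000008600c000780090) (Net.cons (nat_lit 16) (nat_lit 0x10000008e980000c552) (Net.cons (nat_lit 32) (nat_lit 0x102000000000000b098a9e8) (Net.cons (nat_lit 64) (nat_lit 0x102000000000100) Net.nil)))))))))))))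
noncomputable def n3 : Net := (Net.cons (nat_lit 64) (nat_lit 0x102000000000100) (Net.cons (nat_lit 32) (nat_lit 0x1020000000000001a35b57e) (Net.cons (nat_lit 16) (nat_lit 0x16dc0000a468) (Net.cons (nat_lit 8) (nat_lit 0x20001003600d80041008c) (Net.cons (nat_lit 4) (nat_lit 0x40102050e0f0802) (Net.cons (nat_lit 2) (nat_lit 0x1011200011001102) (Net.cons (nat_lit 1) (nat_lit 0x10000004441141441114544) (Net.cons (nat_lit 2) (nat_lit 0x2022202022222020) (Net.cons (nat_lit 4) (nat_lit 0x80400020000020c) (Net.cons (nat_lit 8) (nat_lit 0x20000008600c000780090) (Net.cons (nat_lit 16) (nat_lit 0x10000008e980000c552) (Net.cons (nat_lit 32) (nat_lit 0x102000000000000b098a9e8) (Net.cons (nat_lit 64) (nat_lit 0x102000000000100) Net.nil)))))))))))))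
noncomputable def n4 : Net := (Net.cons (nat_lit 64) (nat_lit 0x102000000000100) (Net.cons (nat_lit 32) (nat_lit 0x10200000000000092d8f2ea) (Net.cons (nat_lit 16) (nat_lit 0x100000086100000342c) (Net.cons (nat_lit 8) (nat_lit 0x2000100d2009500940076) (Net.cons (nat_lit 4) (nat_lit 0x2050c0e03080c) (Net.cons (nat_lit 2) (nat_lit 0x3010020232131202) (Net.cons (nat_lit 1) (nat_lit 0x10000001415414115441050) (Net.cons (nat_lit 2) (nat_lit 0x20000020202000) (Net.cons (nat_lit 4) (nat_lit 0x8040a0e000c0c02) (Net.cons (nat_lit 8) (nat_lit 0x2000000fa0024001c0020) (Net.cons (nat_lit 16) (nat_lit 0x52cc00007a26) (Net.cons (nat_lit 32) (nat_lit 0x1020000000000001a910466) (Net.cons (nat_lit 64) (nat_lit 0x102000000000100) Net.nil)))))))))))))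
noncomputable def n5 : Net := (Net.cons (nat_lit 64) (nat_lit 0x84801000010020) (Net.cons (nat_lit 32) (nat_lit 0x84801000000000f5ed0aac) (Net.cons (nat_lit 16) (nat_lit 0x80850000ed460000ba88) (Net.cons (nat_lit 8) (nat_lit 0x800000009a004f006800b6) (Net.cons (nat_lit 4) (nat_lit 0x80003040405000d0d0702) (Net.cons (nat_lit 2) (nat_lit 0x200231110200302221200) (Net.cons (nat_lit 1) (nat_lit 0x100144414440151140440) (Net.cons (nat_lit 2) (nat_lit 0x200220200000000200000) (Net.cons (nat_lit 4) (nat_lit 0x800020002040004060200) (Net.cons (nat_lit 8) (nat_lit 0x80000000ba000e003000f0) (Net.cons (nat_lit 16) (nat_lit 0x808400008384000004c8) (Net.cons (nat_lit 32) (nat_lit 0x848010000000009b9d4468) (Net.cons (nat_lit 64) (nat_lit 0x84801000010020) Net.nil)))))))))))))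
noncomputable def n6 : Net := (Net.cons (nat_lit 64) (nat_lit 0x84801000010020) (Net.cons (nat_lit 32) (nat_lit 0x848010000000009b9c44e8) (Net.cons (nat_lit 16) (nat_lit 0x3100008384000004ca) (Net.cons (nat_lit 8) (nat_lit 0x80007e00f1003000f0) (Net.cons (nat_lit 4) (nat_lit 0xd00080109000d06060d02) (Net.cons (nat_lit 2) (nat_lit 0x1200021102030000200100) (Net.cons (nat_lit 1) (nat_lit 0x1100010145044451144040) (Net.cons (nat_lit 2) (nat_lit 0x200020200002002222000) (Net.cons (nat_lit 4) (nat_lit 0xc0008000200000c0c0800) (Net.cons (nat_lit 8) (nat_lit 0x80000200b0006800b6) (Net.cons (nat_lit 16) (nat_lit 0x300000ed4600009a88) (Net.cons (nat_lit 32) (nat_lit 0x84801000000000f5fc0aac) (Net.cons (nat_lit 64) (nat_lit 0x84801000010020) Net.nil)))))))))))))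
noncomputable def n7 : Net := (Net.cons (nat_lit 64) (nat_lit 0xfc00000000000000) (Net.cons (nat_lit 32) (nat_lit 0xfc00000000000000c0000000) (Net.cons (nat_lit 16) (nat_lit 0xfc000000f00000000000) (Net.cons (nat_lit 8) (nat_lit 0xfc00f800e000800072) (Net.cons (nat_lit 4) (nat_lit 0xd0803000007070506) (Net.cons (nat_lit 2) (nat_lit 0x123031011110133022) (Net.cons (nat_lit 1) (nat_lit 0x415110414101110414) (Net.cons (nat_lit 2) (nat_lit 0x220200200202000000) (Net.cons (nat_lit 4) (nat_lit 0x802000c080c00040a) (Net.cons (nat_lit 8) (nat_lit 0xfc00f800e00080008e) (Net.cons (nat_lit 16) (nat_lit 0xfc000000f00000000000) (Net.cons (nat_lit 32) (nat_lit 0xfc00000000000000c0000000) (Net.cons (nat_lit 64) (nat_lit 0xfc00000000000000) Net.nil)))))))))))))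
noncomputable def n8 : Net := (Net.cons (nat_lit 64) (nat_lit 0xfc00000000000000) (Net.cons (nat_lit 32) (nat_lit 0xfc00000000000000c0000000) (Net.cons (nat_lit 16) (nat_lit 0xfc000000f00000000000) (Net.cons (nat_lit 8) (nat_lit 0xfc00f800e00080008e) (Net.cons (nat_lit 4) (nat_lit 0x7020f0c08030f0b06) (Net.cons (nat_lit 2) (nat_lit 0x213213233121330312) (Net.cons (nat_lit 1) (nat_lit 0x115104441410444050) (Net.cons (nat_lit 2) (nat_lit 0x220000022200020000) (Net.cons (nat_lit 4) (nat_lit 0x2080c000008080a00) (Net.cons (nat_lit 8) (nat_lit 0xfc00f800e000800072) (Net.cons (nat_lit 16) (nat_lit 0xfc000000f00000000000) (Net.cons (nat_lit 32) (nat_lit 0xfc00000000000000c0000000) (Net.cons (nat_lit 64) (nat_lit 0xfc00000000000000) Net.nil)))))))))))))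
noncomputable def n9 : Net := (Net.cons (nat_lit 64) (nat_lit 0x26801c800241200) (Net.cons (nat_lit 32) (nat_lit 0x24120000000000490f7903) (Net.cons (nat_lit 16) (nat_lit 0x12800000002000005e1900000a0b) (Net.cons (nat_lit 8) (nat_lit 0xec004800000000001d005700ea00b0) (Net.cons (nat_lit 4) (nat_lit 0x60004000000000200080a0c0107020b) (Net.cons (nat_lit 2) (nat_lit 0x32000300000000003000202113122012) (Net.cons (nat_lit 1) (nat_lit 0x50000100000000014004051044441400) (Net.cons (nat_lit 2) (nat_lit 0x20000) (Net.cons (nat_lit 4) (nat_lit 0x80004000000000202000a0c000e0e0c) (Net.cons (nat_lit 8) (nat_lit 0xec004800000000009c0062006200c2) (Net.cons (nat_lit 16) (nat_lit 0x10800000002000007a0800009a0a) (Net.cons (nat_lit 32) (nat_lit 0x4120000000000391dfd20) (Net.cons (nat_lit 64) (nat_lit 0x26801c800241200) Net.nil)))))))))))))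
def B : List (List ℕ) := [[0, 0], [1, 2], [2, 1], [3, 4], [4, 3], [5, 6], [6, 5], [7, 8], [8, 7], [7, 7, 7, 7, 7, 7, 7], [3, 3, 3, 3], [5, 5, 5, 5, 5, 5, 5], [4, 6, 4, 6, 3, 8], [3, 5, 3, 5, 3, 5, 3, 5, 3, 5, 3, 5, 3, 5], [3, 5, 4, 6, 3, 5, 4, 6, 3, 5, 4, 6, 3, 5, 4, 6], [3, 6, 3, 6, 3, 6, 3, 6, 3, 6, 3, 6, 3, 6], [4, 6, 8, 4, 8, 8, 8], [3, 6, 7, 3, 5, 8], [4, 7, 3, 6, 4, 7, 7], [5, 8, 4, 5, 4, 7, 7], [3, 5, 3, 6, 7, 4, 8], [6, 6, 6, 7, 6, 8, 8, 8], [6, 8, 6, 6, 4, 7, 7, 7], [1, 1, 1, 1], [2, 4], [0, 2, 2, 0, 2, 0, 1, 1, 0, 1, 1, 0, 1, 0, 6], [0, 1, 0, 1, 0, 1, 0, 1, 0, 1], [0, 1, 0, 2, 0, 1, 0, 2, 0, 1, 0, 2, 0, 1, 0, 2, 0, 1, 0, 2, 0, 1, 0, 2, 0, 1, 0, 2], [0, 2, 0, 2, 0, 2, 0, 2, 0, 2], [0, 1, 4, 6, 0, 4, 4, 6], [0, 7, 0, 8, 0, 6, 4, 4, 5], [0, 1, 5, 0, 1, 0, 5, 3, 8], [0, 7, 7, 0, 5, 0, 8, 5, 3], [0, 1, 6, 6, 7, 0, 4, 6, 6, 7], [0, 8, 6, 6, 8, 0, 8, 6, 6, 8], [0, 2, 8, 0, 5, 5, 0, 7, 5, 7]]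
def inv (x : ℕ) : ℕ := [0, 2, 1, 4, 3, 6, 5, 8, 7].getD x 0
noncomputable def nl : List Net := [n0, n1, n2, n3, n4, n5, n6, n7, n8, n9]
theorem nl_ok : allL (Net.ok (nat_lit 128)) nl = true := by decide +kernel
noncomputable def R : Rep := mkRep (nat_lit 7) (nat_lit 128) nl (by decide +kernel) nl_ok
def defs : List (List ℕ) := [[0, 1, 1]]
theorem R_ge : ∀ x, 9 + defs.length ≤ x → R.p x = 1 := fun _ hx => mkRep_ge hx
def ngSt : List (List (ℕ × List ℕ) × List ℕ × ℕ × ℕ) := [([(0, [1])], [0], 5, 2), ([(1, [])], [1], 5, 4), ([(2, [])], [2], 1, 4), ([(2, [])], [3], 1, 4), ([(3, [])], [4], 1, 4), ([(1, [])], [5], 5, 7), ([(6, [])], [6], 1, 7), ([(1, [])], [7], 13, 7), ([(8, [])], [8], 1, 7)]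
def ngR : List (List ℕ) := ngRels inv ngSt [[9]]
def xR : List (List ℕ) := [wpow [9] 13]
theorem c0 : relsW R 0 R.lg ((B.drop 0).take 36) = true := by decide +kernel
theorem c1 : defsChk R defs 9 = true := by decide +kernel
theorem c2 : Model.fixW R [] [[0], [1]] = true := by decide +kernel
theorem c3 : Model.growW R [[0], [1]] [0, 1, 0, 1, 0, 1, 1, 0, 1, 0, 1, 0, 1, 0, 1] (Nat.pow 2 0) (ival 0 65) = true := by decide +kernel
theorem c4 : Model.fixW R [0] [[3], [5]] = true := by decide +kernel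
theorem c5 : Model.growW R [[3], [5]] [0, 1, 0, 1, 0, 1, 0, 1, 0, 1] (Nat.pow 2 1) (ival 1 64) = true := by decide +kernel
theorem c6 : Model.fixW R [1, 0] [[7]] = true := by decide +kernel
theorem c7 : Model.growW R [[7]] [0, 0, 0, 0, 0, 0] (Nat.pow 2 2) (ival 2 7) = true := by decide +kernel
theorem c8 : Model.growW R [[0], [1]] [0, 1, 0, 1, 0, 1, 1, 0, 1, 0, 1, 0, 1, 0, 1] (Nat.pow 2 0) (ival 0 65) = true := by decide +kernel
theorem c9 : Model.invW R [[0], [1], [2], [3], [4], [5], [6], [7], [8]] 0 65 = true := by decide +kernel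
theorem c10 : Model.fixW R [0] [[3], [5]] = true := by decide +kernel
theorem c11 : Model.growW R [[3], [5]] [0, 1, 0, 1, 0, 1, 0, 0, 1, 0, 0] (Nat.pow 2 44) (ival 1 64) = true := by decide +kernel
theorem c12 : mapsW R [0] (Nat.pow 2 0) (Nat.pow 2 44) = true := by decide +kernel
theorem c13 : Model.growW R [[0], [3], [5]] [0, 1, 2, 0, 1, 2, 0, 1, 1, 0] (Nat.pow 2 0) (ival 0 65) = true := by decide +kernel
theorem c14 : Model.fixW R [2, 1, 0] ((ngR.drop 0).take 18) = true := by decide +kernel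
theorem c15 : Model.fixW R [2, 1, 0] ((xR.drop 0).take 1) = true := by decide +kernel
end H0.MSz8
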